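import Mathlib

set_option autoImplicit false

/-!
A finite group with a homomorphism whose kernel is not trivial and has exponent two: the tuples of
elements with the same image form groups of unbounded order with the same orders of elements.
-/

namespace Cfsg.Agent.Helper9.Fibre

variable {H K : Type*} [Group H] [Group K]

/-- the tuples whose members have the same image. -/
def fib (π : H →* K) (k : ℕ) : Subgroup (Fin k → H) where
  carrier := {f | ∀ i j, π (f i) = π (f j)}
  one_mem' := by
    intro i j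
    rfl
  mul_mem' := by
    intro a b ha hb i j
    change π (a i * b i) = π (a j * b j)
    rw [map_mul, map_mul, ha i j, hb i j]
  inv_mem' := by
    intro a ha i j
    change π (a i)⁻¹ = π (a j)⁻¹
    rw [map_inv, map_inv, ha i j]

theorem mem_fib (π : H →* K) (k : ℕ) (f : Fin k → H) :
    f ∈ fib π k ↔ ∀ i j, π (f i) = π (f j) := Iff.rfl

theorem orderOf_dvd_two_mul (π : H →* K) (hexp : ∀ h ∈ π.ker, h * h = 1) (h : H) :
    orderOf h ∣ 2 * orderOf (π h) := by
  apply orderOf_dvd_of_pow_eq_one
  rw [mul_comm, pow_mul, pow_two]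
  apply hexp
  rw [MonoidHom.mem_ker, map_pow, pow_orderOf_eq_one]

/-- the order of an element over an element of order `o` is `o` or twice `o`. -/
theorem orderOf_cases [Finite H] (π : H →* K) (hexp : ∀ h ∈ π.ker, h * h = 1) (h : H) :
    orderOf h = orderOf (π h) ∨ orderOf h = 2 * orderOf (π h) := by
  have h1 : orderOf (π h) ∣ orderOf h := orderOf_map_dvd π h
  have h2 := orderOf_dvd_two_mul π hexp h
  have hpos : 0 < orderOf h := orderOf_pos h
  obtain ⟨d, hd⟩ := h1
  have hopos : 0 < orderOf (π h) := by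
    rcases Nat.eq_zero_or_pos (orderOf (π h)) with h0 | h0
    · rw [h0, zero_mul] at hd
      omega
    · exact h0
  rw [hd, mul_comm 2, Nat.mul_dvd_mul_iff_left hopos] at h2
  have hd2 : d ≤ 2 := Nat.le_of_dvd (by norm_num) h2
  have hd0 : d ≠ 0 := by
    rintro rfl
    rw [mul_zero] at hd
    omega
  rcases (by omega : d = 1 ∨ d = 2) with rfl | rfl
  · left
    rw [hd, mul_one]
  · right
    rw [hd, mul_comm]

/-- the order of a tuple is the order of one of its members. -/
theorem exists_orderOf_eq [Finite H] (π : H →* K) (hexp : ∀ h ∈ π.ker, h * h = 1) (k : ℕ)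
    (f : Fin (k + 1) → H) (hf : f ∈ fib π (k + 1)) : ∃ i, orderOf f = orderOf (f i) := by
  have key : ∃ i0, ∀ i, orderOf (f i) ∣ orderOf (f i0) := by
    by_cases hc : ∃ i0, orderOf (f i0) = 2 * orderOf (π (f 0))
    · obtain ⟨i0, hi0⟩ := hc
      refine ⟨i0, fun i => ?_⟩
      rw [hi0, ← hf i 0]
      exact orderOf_dvd_two_mul π hexp (f i)
    · push Not at hc
      refine ⟨0, fun i => ?_⟩
      have h1 := orderOf_cases π hexp (f i)
      have h2 := orderOf_cases π hexp (f 0)
      rw [hf i 0] at h1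
      rcases h1 with h1 | h1
      · rcases h2 with h2 | h2
        · rw [h1, h2]
        · exact absurd h2 (hc 0)
      · exact absurd h1 (hc i)
  obtain ⟨i0, hi0⟩ := key
  refine ⟨i0, ?_⟩
  rw [Pi.orderOf]
  apply Nat.dvd_antisymm
  · apply Finset.lcm_dvd
    intro i _
    exact hi0 i
  · exact Finset.dvd_lcm (Finset.mem_univ i0)

theorem range_orderOf_fib [Finite H] (π : H →* K) (hexp : ∀ h ∈ π.ker, h * h = 1) (k : ℕ) :
    Set.range (orderOf : ↥(fib π (k + 1)) → ℕ) = Set.range (orderOf : H → ℕ) := by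
  ext n
  constructor
  · rintro ⟨F, rfl⟩
    obtain ⟨i, hi⟩ := exists_orderOf_eq π hexp k F.1 F.2
    refine ⟨F.1 i, ?_⟩
    rw [← hi, Subgroup.orderOf_coe]
  · rintro ⟨h, rfl⟩
    refine ⟨⟨fun _ => h, fun _ _ => rfl⟩, ?_⟩
    rw [← Subgroup.orderOf_coe]
    change orderOf (fun _ : Fin (k + 1) => h) = orderOf h
    rw [Pi.orderOf]
    apply Nat.dvd_antisymm
    · apply Finset.lcm_dvd
      intro i _
      exact dvd_rfl
    · exact Finset.dvd_lcm (f := fun _ : Fin (k + 1) => orderOf h) (Finset.mem_univ 0)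

theorem card_fib_ge [Finite H] (π : H →* K) (hne : π.ker ≠ ⊥) (k : ℕ) :
    2 ^ k ≤ Nat.card ↥(fib π k) := by
  have h2 : 2 ≤ Nat.card π.ker := by
    have := (Subgroup.one_lt_card_iff_ne_bot (H := π.ker)).mpr hne
    omega
  let e : (Fin k → ↥π.ker) → ↥(fib π k) := fun c =>
    ⟨fun i => (c i : H), fun i j => by
      rw [MonoidHom.mem_ker.mp (c i).2, MonoidHom.mem_ker.mp (c j).2]⟩
  have he : Function.Injective e := by
    intro c c' hcc
    funext i
    apply Subtype.ext
    exact congrFun (congrArg Subtype.val hcc) i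
  have h3 := Nat.card_le_card_of_injective e he
  rw [Nat.card_fun, Nat.card_fin] at h3
  exact le_trans (Nat.pow_le_pow_left h2 k) h3

/-- groups of unbounded order with the same orders of elements. -/
theorem exists_large {H K : Type} [Group H] [Group K] [Finite H] (π : H →* K)
    (hexp : ∀ h ∈ π.ker, h * h = 1) (hne : π.ker ≠ ⊥) (N : ℕ) :
    ∃ (H' : Type) (_ : Group H') (_ : Fintype H'), N < Fintype.card H' ∧
      Set.range (orderOf : H' → ℕ) = Set.range (orderOf : H → ℕ) := by
  refine ⟨↥(fib π (N + 1)), inferInstance, Fintype.ofFinite _, ?_, range_orderOf_fib π hexp N⟩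
  rw [Fintype.card_eq_nat_card]
  have h1 := card_fib_ge π hne (N + 1)
  have h2 : N + 1 < 2 ^ (N + 1) := Nat.lt_two_pow_self
  omega

end Cfsg.Agent.Helper9.Fibre
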