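import Mathlib
import Cfsg.Agent.Helper9.Spectrum.Fibre

set_option autoImplicit false

/-!
The extension of the vectors of even weight on eight points, modulo the vector of all ones, by
the alternating group of degree eight, as a quotient of a subgroup of a semidirect product.
-/

namespace Cfsg.Agent.Helper9.A8V

/-- the vectors on eight points. -/
abbrev Vec : Type := Fin 8 → Multiplicative (ZMod 2)

/-- the action of the permutations on the vectors. -/
abbrev act : Equiv.Perm (Fin 8) →* MulAut Vec :=
  mulAutArrow (G := Equiv.Perm (Fin 8)) (A := Fin 8) (M := Multiplicative (ZMod 2))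

/-- the signed permutations of eight points. -/
abbrev W : Type := Vec ⋊[act] Equiv.Perm (Fin 8)

theorem act_apply (g : Equiv.Perm (Fin 8)) (v : Vec) (j : Fin 8) : act g v j = v (g⁻¹ j) := rfl

theorem sq_vec (a : Multiplicative (ZMod 2)) : a * a = 1 := by
  revert a
  decide

theorem prod_act (g : Equiv.Perm (Fin 8)) (v : Vec) : ∏ j, act g v j = ∏ j, v j := by
  simp only [act_apply]
  exact Equiv.prod_comp g⁻¹ v

/-- the product of the entries of the vector. -/
def wt : W →* Multiplicative (ZMod 2) where
  toFun x := ∏ j, x.left j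
  map_one' := by
    change ∏ j : Fin 8, (1 : Multiplicative (ZMod 2)) = 1
    exact Finset.prod_const_one
  map_mul' x y := by
    rw [SemidirectProduct.mul_left]
    change ∏ j, (x.left j * act x.right y.left j) = _
    rw [Finset.prod_mul_distrib, prod_act]

theorem wt_apply (x : W) : wt x = ∏ j, x.left j := rfl

/-- the sign of the permutation. -/
def sg : W →* ℤˣ := Equiv.Perm.sign.comp SemidirectProduct.rightHom

theorem sg_apply (x : W) : sg x = Equiv.Perm.sign x.right := rfl

/-- the even vectors with the even permutations. -/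
def S : Subgroup W := wt.ker ⊓ sg.ker

theorem mem_S (x : W) : x ∈ S ↔ ∏ j, x.left j = 1 ∧ Equiv.Perm.sign x.right = 1 := by
  unfold S
  rw [Subgroup.mem_inf, MonoidHom.mem_ker, MonoidHom.mem_ker]
  rfl

/-- the vector of all ones. -/
def zv : Vec := fun _ => Multiplicative.ofAdd 1

/-- the central element. -/
def z : W := ⟨zv, 1⟩

theorem act_zv (g : Equiv.Perm (Fin 8)) : act g zv = zv := rfl

theorem z_comm (x : W) : x * z = z * x := by
  apply SemidirectProduct.ext
  · rw [SemidirectProduct.mul_left, SemidirectProduct.mul_left]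
    change x.left * act x.right zv = zv * act 1 x.left
    rw [act_zv, map_one, mul_comm]
    rfl
  · rw [SemidirectProduct.mul_right, SemidirectProduct.mul_right]
    change x.right * 1 = 1 * x.right
    rw [mul_one, one_mul]

theorem z_sq : z * z = 1 := by
  apply SemidirectProduct.ext
  · rw [SemidirectProduct.mul_left]
    change zv * act 1 zv = 1
    rw [map_one]
    funext j
    exact sq_vec _
  · rfl

theorem z_mem : z ∈ S := by
  rw [mem_S]
  constructor
  · change ∏ _j : Fin 8, Multiplicative.ofAdd (1 : ZMod 2) = 1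
    decide
  · exact Equiv.Perm.sign_one

/-- the central subgroup of order two. -/
def Z : Subgroup ↥S where
  carrier := {x | (x : W) = 1 ∨ (x : W) = z}
  one_mem' := Or.inl rfl
  mul_mem' := by
    rintro a b (ha | ha) (hb | hb)
    · left
      change (a : W) * (b : W) = 1
      rw [ha, hb, one_mul]
    · right
      change (a : W) * (b : W) = z
      rw [ha, hb, one_mul]
    · right
      change (a : W) * (b : W) = z
      rw [ha, hb, mul_one]
    · left
      change (a : W) * (b : W) = 1
      rw [ha, hb, z_sq]
  inv_mem' := by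
    rintro a (ha | ha)
    · left
      change (a : W)⁻¹ = 1
      rw [ha, inv_one]
    · right
      change (a : W)⁻¹ = z
      rw [ha]
      exact inv_eq_of_mul_eq_one_right z_sq

theorem mem_Z (x : ↥S) : x ∈ Z ↔ (x : W) = 1 ∨ (x : W) = z := Iff.rfl

instance Z_normal : Z.Normal := by
  constructor
  intro n hn g
  rw [mem_Z] at hn ⊢
  rcases hn with hn | hn
  · left
    change (g : W) * (n : W) * (g : W)⁻¹ = 1
    rw [hn, mul_one, mul_inv_cancel]
  · right
    change (g : W) * (n : W) * (g : W)⁻¹ = z
    rw [hn, z_comm, mul_assoc, mul_inv_cancel, mul_one]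

/-- the group. -/
abbrev H1 : Type := ↥S ⧸ Z

instance : Finite W := Finite.of_equiv (Vec × Equiv.Perm (Fin 8))
  ⟨fun p => ⟨p.1, p.2⟩, fun x => (x.left, x.right), fun _ => rfl, fun _ => rfl⟩

instance : Finite H1 := inferInstance

/-- the permutation of an element. -/
def pr : H1 →* Equiv.Perm (Fin 8) :=
  QuotientGroup.lift Z (SemidirectProduct.rightHom.comp S.subtype) (by
    intro x hx
    rw [mem_Z] at hx
    change (x : W).right = 1
    rcases hx with hx | hx
    · rw [hx]
      rfl
    · rw [hx]
      rfl)

theorem pr_mk (x : ↥S) : pr (QuotientGroup.mk x) = (x : W).right := rfl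

theorem sign_pr (x : H1) : Equiv.Perm.sign (pr x) = 1 := by
  obtain ⟨s, rfl⟩ := QuotientGroup.mk_surjective x
  rw [pr_mk]
  exact ((mem_S _).mp s.2).2

theorem pr_ker_sq : ∀ h ∈ pr.ker, h * h = 1 := by
  intro h hh
  obtain ⟨s, rfl⟩ := QuotientGroup.mk_surjective h
  rw [MonoidHom.mem_ker, pr_mk] at hh
  rw [← QuotientGroup.mk_mul, QuotientGroup.eq_one_iff, mem_Z]
  left
  change (s : W) * (s : W) = 1
  apply SemidirectProduct.ext
  · rw [SemidirectProduct.mul_left, hh, map_one]
    funext j
    exact sq_vec _
  · rw [SemidirectProduct.mul_right, hh, mul_one]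
    rfl

/-- a vector with two entries. -/
def e2 (a b : Fin 8) : Vec := fun j => if j = a ∨ j = b then Multiplicative.ofAdd 1 else 1

theorem pr_ker_ne : pr.ker ≠ ⊥ := by
  have hmem : (⟨e2 0 1, 1⟩ : W) ∈ S := by
    rw [mem_S]
    constructor
    · change ∏ j : Fin 8, e2 0 1 j = 1
      decide
    · exact Equiv.Perm.sign_one
  intro hbot
  have h1 : (QuotientGroup.mk (⟨⟨e2 0 1, 1⟩, hmem⟩ : ↥S) : H1) ∈ pr.ker := by
    rw [MonoidHom.mem_ker, pr_mk]
  rw [hbot, Subgroup.mem_bot, QuotientGroup.eq_one_iff, mem_Z] at h1
  rcases h1 with h1 | h1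
  · have h2 := congrFun (congrArg SemidirectProduct.left h1) 0
    change e2 0 1 0 = 1 at h2
    revert h2
    decide
  · have h2 := congrFun (congrArg SemidirectProduct.left h1) 2
    change e2 0 1 2 = zv 2 at h2
    revert h2
    decide

end Cfsg.Agent.Helper9.A8V
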