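import Mathlib

set_option autoImplicit false

/-!
The cycle types of the permutations of eight points, and the orders of the even ones.
-/

namespace Cfsg.Agent.Helper9.A8V

/-- the multisets of numbers, each at least two, with sum at most a bound. -/
def types (B : ℕ) : Finset (Multiset ℕ) :=
  (if 8 ≤ B then {{8}, {6, 2}, {5, 3}, {4, 4}, {4, 2, 2}, {3, 3, 2}, {2, 2, 2, 2}} else ∅) ∪
  (if 7 ≤ B then {{7}, {5, 2}, {4, 3}, {3, 2, 2}} else ∅) ∪
  (if 6 ≤ B then {{6}, {4, 2}, {3, 3}, {2, 2, 2}} else ∅) ∪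
  (if 5 ≤ B then {{5}, {3, 2}} else ∅) ∪
  (if 4 ≤ B then {{4}, {2, 2}} else ∅) ∪
  (if 3 ≤ B then {{3}} else ∅) ∪
  (if 2 ≤ B then {{2}} else ∅) ∪ {0}

theorem zero_mem_types : ∀ B : Fin 9, (0 : Multiset ℕ) ∈ types B.val := by decide

theorem cons_mem_types : ∀ B : Fin 9, ∀ a : Fin 9, 2 ≤ a.val → a.val ≤ B.val →
    ∀ m ∈ types (B.val - a.val), a.val ::ₘ m ∈ types B.val := by decide

theorem mem_types (m : Multiset ℕ) : ∀ B : ℕ, B ≤ 8 → (∀ n ∈ m, 2 ≤ n) → m.sum ≤ B →
    m ∈ types B := by
  induction m using Multiset.induction_on with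
  | empty =>
    intro B hB _ _
    exact zero_mem_types ⟨B, by omega⟩
  | cons a m ih =>
    intro B hB h2 hs
    rw [Multiset.sum_cons] at hs
    have ha : 2 ≤ a := h2 a (Multiset.mem_cons_self a m)
    have h3 := ih (B - a) (by omega) (fun n hn => h2 n (Multiset.mem_cons_of_mem hn)) (by omega)
    have hab : a ≤ B := by omega
    exact cons_mem_types ⟨B, by omega⟩ ⟨a, by omega⟩ ha hab _ h3

theorem cycleType_mem (σ : Equiv.Perm (Fin 8)) : σ.cycleType ∈ types 8 :=
  mem_types σ.cycleType 8 le_rfl (fun n hn => Equiv.Perm.two_le_of_mem_cycleType hn) (by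
    rw [Equiv.Perm.sum_cycleType]
    exact (Finset.card_le_univ _).trans (by rw [Fintype.card_fin]))

theorem types_even : ∀ m ∈ types 8, Even (m.sum + Multiset.card m) →
    m.lcm ∈ ({1, 2, 3, 4, 5, 6, 7, 15} : Finset ℕ) := by decide

theorem types_seven : ∀ m ∈ types 8, m.lcm = 7 → m = {7} := by decide

theorem types_fifteen : ∀ m ∈ types 8, m.lcm = 15 → m = {3, 5} := by decide

/-- the orders of the even permutations of eight points. -/
theorem orderOf_even (σ : Equiv.Perm (Fin 8)) (hσ : Equiv.Perm.sign σ = 1) :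
    orderOf σ ∈ ({1, 2, 3, 4, 5, 6, 7, 15} : Finset ℕ) := by
  rw [← Equiv.Perm.lcm_cycleType]
  apply types_even _ (cycleType_mem σ)
  rw [Equiv.Perm.sign_of_cycleType] at hσ
  by_contra hodd
  rw [Nat.not_even_iff_odd] at hodd
  rw [Odd.neg_one_pow hodd] at hσ
  revert hσ
  decide

theorem cycleType_of_seven (σ : Equiv.Perm (Fin 8)) (hσ : orderOf σ = 7) : σ.cycleType = {7} := by
  apply types_seven _ (cycleType_mem σ)
  rw [Equiv.Perm.lcm_cycleType, hσ]

theorem cycleType_of_fifteen (σ : Equiv.Perm (Fin 8)) (hσ : orderOf σ = 15) :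
    σ.cycleType = {3, 5} := by
  apply types_fifteen _ (cycleType_mem σ)
  rw [Equiv.Perm.lcm_cycleType, hσ]

/-- the cycle of seven points. -/
def c7 : Equiv.Perm (Fin 8) := List.formPerm [0, 1, 2, 3, 4, 5, 6]

/-- the product of a cycle of three points and a cycle of five points. -/
def c35 : Equiv.Perm (Fin 8) := List.formPerm [0, 1, 2] * List.formPerm [3, 4, 5, 6, 7]

theorem cycleType_c7 : c7.cycleType = {7} := by
  have hc : c7.IsCycle := List.isCycle_formPerm (by decide) (by decide)
  rw [hc.cycleType]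
  unfold c7
  rw [List.support_formPerm_of_nodup _ (by decide) (by decide)]
  decide

theorem cycleType_c35 : c35.cycleType = {3, 5} := by
  unfold c35
  have hd : Equiv.Perm.Disjoint (List.formPerm ([0, 1, 2] : List (Fin 8)))
      (List.formPerm ([3, 4, 5, 6, 7] : List (Fin 8))) := by
    rw [List.formPerm_disjoint_iff (by decide) (by decide) (by decide) (by decide),
      List.disjoint_iff_ne]
    decide
  rw [Equiv.Perm.Disjoint.cycleType_mul hd]
  have h3 : (List.formPerm ([0, 1, 2] : List (Fin 8))).IsCycle :=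
    List.isCycle_formPerm (by decide) (by decide)
  have h5 : (List.formPerm ([3, 4, 5, 6, 7] : List (Fin 8))).IsCycle :=
    List.isCycle_formPerm (by decide) (by decide)
  rw [h3.cycleType, h5.cycleType, List.support_formPerm_of_nodup _ (by decide) (by decide),
    List.support_formPerm_of_nodup _ (by decide) (by decide)]
  decide

theorem conj_c7 (σ : Equiv.Perm (Fin 8)) (hσ : orderOf σ = 7) : ∃ h, h * c7 * h⁻¹ = σ := by
  have : IsConj c7 σ := by
    rw [Equiv.Perm.isConj_iff_cycleType_eq, cycleType_c7, cycleType_of_seven σ hσ]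
  exact isConj_iff.mp this

theorem conj_c35 (σ : Equiv.Perm (Fin 8)) (hσ : orderOf σ = 15) : ∃ h, h * c35 * h⁻¹ = σ := by
  have : IsConj c35 σ := by
    rw [Equiv.Perm.isConj_iff_cycleType_eq, cycleType_c35, cycleType_of_fifteen σ hσ]
  exact isConj_iff.mp this

end Cfsg.Agent.Helper9.A8V
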