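import Mathlib
import Cfsg.Agent.Helper9.Spectrum.Model
import Cfsg.Agent.Helper9.Spectrum.Types

set_option autoImplicit false

/-!
The orders of the elements of the extension of the even vectors modulo the vector of all ones by
the alternating group of degree eight.
-/

namespace Cfsg.Agent.Helper9.A8V

/-- the product of the entries along the orbit. -/
def nrm (g : Equiv.Perm (Fin 8)) (v : Vec) (m : ℕ) : Vec :=
  fun j => ∏ i ∈ Finset.range m, v ((g ^ i)⁻¹ j)

theorem pow_eq (v : Vec) (g : Equiv.Perm (Fin 8)) (m : ℕ) :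
    ((⟨v, g⟩ : W) ^ m) = ⟨nrm g v m, g ^ m⟩ := by
  induction m with
  | zero =>
    rw [pow_zero, pow_zero]
    apply SemidirectProduct.ext
    · funext j
      rfl
    · rfl
  | succ m ih =>
    rw [pow_succ, ih]
    apply SemidirectProduct.ext
    · rw [SemidirectProduct.mul_left]
      funext j
      change nrm g v m j * act (g ^ m) v j = nrm g v (m + 1) j
      rw [act_apply]
      unfold nrm
      rw [Finset.prod_range_succ]
    · rw [SemidirectProduct.mul_right]
      change g ^ m * g = g ^ (m + 1)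
      rw [pow_succ]

theorem nrm_conj (h c : Equiv.Perm (Fin 8)) (v : Vec) (m : ℕ) (j : Fin 8) :
    nrm (h * c * h⁻¹) v m j = nrm c (fun a => v (h a)) m (h⁻¹ j) := by
  unfold nrm
  apply Finset.prod_congr rfl
  intro i _
  rw [conj_pow, mul_inv_rev, mul_inv_rev, inv_inv, Equiv.Perm.mul_apply, Equiv.Perm.mul_apply]

/-- the iterates of a map. -/
def itF (f : Fin 8 → Fin 8) (i : ℕ) (j : Fin 8) : Fin 8 := Nat.rec j (fun _ acc => f acc) i

theorem itF_succ (f : Fin 8 → Fin 8) (i : ℕ) (j : Fin 8) : itF f (i + 1) j = f (itF f i j) := rfl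

theorem pow_inv_apply (c : Equiv.Perm (Fin 8)) (p : Fin 8 → Fin 8) (hp : ∀ j, c⁻¹ j = p j) (i : ℕ)
    (j : Fin 8) : (c ^ i)⁻¹ j = itF p i j := by
  induction i with
  | zero => rfl
  | succ i ih =>
    rw [itF_succ, ← ih, ← hp, ← inv_pow, ← inv_pow, pow_succ', Equiv.Perm.mul_apply]

/-- the inverse of the cycle of seven points. -/
def p7 : Fin 8 → Fin 8 := ![6, 0, 1, 2, 3, 4, 5, 7]

/-- the inverse of the product of a cycle of three points and a cycle of five points. -/
def p35 : Fin 8 → Fin 8 := ![2, 0, 1, 7, 3, 4, 5, 6]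

theorem c7_inv : ∀ j, c7⁻¹ j = p7 j := by decide

theorem c35_inv : ∀ j, c35⁻¹ j = p35 j := by decide

set_option maxRecDepth 1000000 in
set_option maxHeartbeats 0 in
theorem chk7 : ∀ u : Fin 8 → ZMod 2, (∑ i, u i) = 0 →
    (∀ j, (∑ i ∈ Finset.range 7, u (itF p7 i j)) = 0) ∨
      (∀ j, (∑ i ∈ Finset.range 7, u (itF p7 i j)) = 1) := by
  decide +kernel

set_option maxRecDepth 1000000 in
set_option maxHeartbeats 0 in
theorem chk15 : ∀ u : Fin 8 → ZMod 2, (∑ i, u i) = 0 →
    (∀ j, (∑ i ∈ Finset.range 15, u (itF p35 i j)) = 0) ∨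
      (∀ j, (∑ i ∈ Finset.range 15, u (itF p35 i j)) = 1) := by
  decide +kernel

theorem core (c : Equiv.Perm (Fin 8)) (p : Fin 8 → Fin 8) (hp : ∀ j, c⁻¹ j = p j) (o : ℕ)
    (hchk : ∀ u : Fin 8 → ZMod 2, (∑ i, u i) = 0 →
      (∀ j, (∑ i ∈ Finset.range o, u (itF p i j)) = 0) ∨
        (∀ j, (∑ i ∈ Finset.range o, u (itF p i j)) = 1))
    (v : Vec) (hv : ∏ j, v j = 1) : nrm c v o = 1 ∨ nrm c v o = zv := by
  have hu : (∑ i, (v i).toAdd) = 0 := by
    rw [← toAdd_prod, hv]
    rfl
  have key : ∀ j, nrm c v o j =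
      Multiplicative.ofAdd (∑ i ∈ Finset.range o, (v (itF p i j)).toAdd) := by
    intro j
    unfold nrm
    rw [ofAdd_sum]
    apply Finset.prod_congr rfl
    intro i _
    rw [pow_inv_apply c p hp]
    rfl
  rcases hchk (fun i => (v i).toAdd) hu with h | h
  · left
    funext j
    rw [key, h j]
    rfl
  · right
    funext j
    rw [key, h j]
    rfl

theorem prod_comp_perm (h : Equiv.Perm (Fin 8)) (v : Vec) : ∏ a, v (h a) = ∏ a, v a :=
  Equiv.prod_comp h v

/-- over the permutations of order seven and fifteen the power is central. -/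
theorem nrm_const (g : Equiv.Perm (Fin 8)) (v : Vec) (hv : ∏ j, v j = 1) (o : ℕ)
    (ho : orderOf g = o) (h715 : o = 7 ∨ o = 15) : nrm g v o = 1 ∨ nrm g v o = zv := by
  rcases h715 with rfl | rfl
  · obtain ⟨h, rfl⟩ := conj_c7 g ho
    have hv' : ∏ a, (fun a => v (h a)) a = 1 := by rw [prod_comp_perm, hv]
    rcases core c7 p7 c7_inv 7 chk7 _ hv' with hc | hc
    · left
      funext j
      rw [nrm_conj, hc]
      rfl
    · right
      funext j
      rw [nrm_conj, hc]
      rfl
  · obtain ⟨h, rfl⟩ := conj_c35 g ho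
    have hv' : ∏ a, (fun a => v (h a)) a = 1 := by rw [prod_comp_perm, hv]
    rcases core c35 p35 c35_inv 15 chk15 _ hv' with hc | hc
    · left
      funext j
      rw [nrm_conj, hc]
      rfl
    · right
      funext j
      rw [nrm_conj, hc]
      rfl

/-- the element of the group of a vector and a permutation. -/
def el (v : Vec) (g : Equiv.Perm (Fin 8)) (hv : ∏ j, v j = 1) (hg : Equiv.Perm.sign g = 1) : H1 :=
  QuotientGroup.mk (⟨⟨v, g⟩, (mem_S _).mpr ⟨hv, hg⟩⟩ : ↥S)

theorem exists_el (x : H1) : ∃ v g hv hg, x = el v g hv hg := by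
  obtain ⟨⟨⟨v, g⟩, hs⟩, rfl⟩ := QuotientGroup.mk_surjective x
  exact ⟨v, g, ((mem_S _).mp hs).1, ((mem_S _).mp hs).2, rfl⟩

theorem pr_el (v : Vec) (g : Equiv.Perm (Fin 8)) (hv : ∏ j, v j = 1)
    (hg : Equiv.Perm.sign g = 1) : pr (el v g hv hg) = g := rfl

theorem el_pow_eq_one_iff (v : Vec) (g : Equiv.Perm (Fin 8)) (hv : ∏ j, v j = 1)
    (hg : Equiv.Perm.sign g = 1) (o : ℕ) (ho : g ^ o = 1) :
    el v g hv hg ^ o = 1 ↔ nrm g v o = 1 ∨ nrm g v o = zv := by
  unfold el
  rw [← QuotientGroup.mk_pow, QuotientGroup.eq_one_iff, mem_Z]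
  change ((⟨v, g⟩ : W) ^ o = 1 ∨ (⟨v, g⟩ : W) ^ o = z) ↔ _
  rw [pow_eq, ho]
  constructor
  · rintro (h | h)
    · left
      exact congrArg SemidirectProduct.left h
    · right
      exact congrArg SemidirectProduct.left h
  · rintro (h | h)
    · left
      rw [h]
      rfl
    · right
      rw [h]
      rfl

theorem orderOf_el_cases (v : Vec) (g : Equiv.Perm (Fin 8)) (hv : ∏ j, v j = 1)
    (hg : Equiv.Perm.sign g = 1) :
    orderOf (el v g hv hg) = orderOf g ∨ orderOf (el v g hv hg) = 2 * orderOf g :=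
  Fibre.orderOf_cases pr pr_ker_sq (el v g hv hg)

theorem orderOf_el_of_const (v : Vec) (g : Equiv.Perm (Fin 8)) (hv : ∏ j, v j = 1)
    (hg : Equiv.Perm.sign g = 1) (h : nrm g v (orderOf g) = 1 ∨ nrm g v (orderOf g) = zv) :
    orderOf (el v g hv hg) = orderOf g := by
  have h1 := (el_pow_eq_one_iff v g hv hg (orderOf g) (pow_orderOf_eq_one g)).mpr h
  have h2 := orderOf_dvd_of_pow_eq_one h1
  have hpos : 0 < orderOf g := orderOf_pos g
  rcases orderOf_el_cases v g hv hg with h3 | h3
  · exact h3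
  · rw [h3] at h2
    have := Nat.le_of_dvd hpos h2
    omega

theorem orderOf_el_of_not_const (v : Vec) (g : Equiv.Perm (Fin 8)) (hv : ∏ j, v j = 1)
    (hg : Equiv.Perm.sign g = 1) (o : ℕ) (ho : orderOf g = o) (j1 j2 : Fin 8)
    (h1 : nrm g v o j1 = Multiplicative.ofAdd 1) (h2 : nrm g v o j2 = 1) :
    orderOf (el v g hv hg) = 2 * o := by
  rcases orderOf_el_cases v g hv hg with h3 | h3
  · exfalso
    have h4 := pow_orderOf_eq_one (el v g hv hg)
    rw [h3, ho] at h4
    have h5 := (el_pow_eq_one_iff v g hv hg o (by rw [← ho]; exact pow_orderOf_eq_one g)).mp h4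
    rcases h5 with h5 | h5
    · rw [h5] at h1
      revert h1
      change (1 : Multiplicative (ZMod 2)) = Multiplicative.ofAdd 1 → False
      decide
    · rw [h5] at h2
      revert h2
      change Multiplicative.ofAdd (1 : ZMod 2) = 1 → False
      decide
  · rw [h3, ho]

/-- the orders of the elements. -/
def ordSet : Finset ℕ := {1, 2, 3, 4, 5, 6, 7, 8, 10, 12, 15}

theorem orderOf_mem (x : H1) : orderOf x ∈ ordSet := by
  obtain ⟨v, g, hv, hg, rfl⟩ := exists_el x
  have h1 := orderOf_even g hg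
  by_cases h715 : orderOf g = 7 ∨ orderOf g = 15
  · rw [orderOf_el_of_const v g hv hg (nrm_const g v hv _ rfl h715)]
    rcases h715 with h | h
    · rw [h]
      decide
    · rw [h]
      decide
  · push Not at h715
    have h2 : orderOf g ∈ ({1, 2, 3, 4, 5, 6} : Finset ℕ) := by
      simp only [Finset.mem_insert, Finset.mem_singleton] at h1 ⊢
      omega
    rcases orderOf_el_cases v g hv hg with h3 | h3
    · rw [h3]
      simp only [Finset.mem_insert, Finset.mem_singleton] at h2
      unfold ordSet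
      simp only [Finset.mem_insert, Finset.mem_singleton]
      omega
    · rw [h3]
      simp only [Finset.mem_insert, Finset.mem_singleton] at h2
      unfold ordSet
      simp only [Finset.mem_insert, Finset.mem_singleton]
      omega

end Cfsg.Agent.Helper9.A8V
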