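import Mathlib
import Cfsg.Agent.Helper9.Spectrum.Orders

set_option autoImplicit false

/-!
Elements of each order in the extension of the even vectors modulo the vector of all ones by the
alternating group of degree eight.
-/

namespace Cfsg.Agent.Helper9.A8V

theorem ord_of' (σ : Equiv.Perm (Fin 8)) (n : ℕ) (hn : 0 < n) (h1 : σ ^ n = 1)
    (h2 : ∀ m < n, 0 < m → σ ^ m ≠ 1) : orderOf σ = n := (orderOf_eq_iff hn).2 ⟨h1, h2⟩

/-- an even permutation of order two. -/
def g2 : Equiv.Perm (Fin 8) := Equiv.swap 0 1 * Equiv.swap 2 3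

/-- an even permutation of order three. -/
def g3 : Equiv.Perm (Fin 8) := List.formPerm [0, 1, 2]

/-- an even permutation of order four. -/
def g4 : Equiv.Perm (Fin 8) := List.formPerm [0, 1, 2, 3] * Equiv.swap 4 5

/-- an even permutation of order five. -/
def g5 : Equiv.Perm (Fin 8) := List.formPerm [0, 1, 2, 3, 4]

/-- an even permutation of order six. -/
def g6 : Equiv.Perm (Fin 8) := List.formPerm [0, 1, 2] * Equiv.swap 3 4 * Equiv.swap 5 6

theorem sign_g2 : Equiv.Perm.sign g2 = 1 := by decide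
theorem sign_g3 : Equiv.Perm.sign g3 = 1 := by decide
theorem sign_g4 : Equiv.Perm.sign g4 = 1 := by decide
theorem sign_g5 : Equiv.Perm.sign g5 = 1 := by decide
theorem sign_g6 : Equiv.Perm.sign g6 = 1 := by decide
theorem sign_c7 : Equiv.Perm.sign c7 = 1 := by decide
theorem sign_c35 : Equiv.Perm.sign c35 = 1 := by decide

theorem orderOf_g2 : orderOf g2 = 2 :=
  ord_of' _ 2 (by decide) (by decide +kernel) (by decide +kernel)
theorem orderOf_g3 : orderOf g3 = 3 :=
  ord_of' _ 3 (by decide) (by decide +kernel) (by decide +kernel)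
theorem orderOf_g4 : orderOf g4 = 4 :=
  ord_of' _ 4 (by decide) (by decide +kernel) (by decide +kernel)
theorem orderOf_g5 : orderOf g5 = 5 :=
  ord_of' _ 5 (by decide) (by decide +kernel) (by decide +kernel)
theorem orderOf_g6 : orderOf g6 = 6 :=
  ord_of' _ 6 (by decide) (by decide +kernel) (by decide +kernel)

theorem orderOf_c7 : orderOf c7 = 7 := by
  rw [← Equiv.Perm.lcm_cycleType, cycleType_c7]
  decide

theorem orderOf_c35 : orderOf c35 = 15 := by
  rw [← Equiv.Perm.lcm_cycleType, cycleType_c35]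
  decide

theorem prod_one_vec : ∏ j, (1 : Vec) j = 1 := Finset.prod_const_one

theorem nrm_one (g : Equiv.Perm (Fin 8)) (o : ℕ) : nrm g 1 o = 1 := by
  funext j
  unfold nrm
  exact Finset.prod_eq_one (fun _ _ => rfl)

theorem orderOf_el_one (g : Equiv.Perm (Fin 8)) (hg : Equiv.Perm.sign g = 1) :
    orderOf (el 1 g prod_one_vec hg) = orderOf g :=
  orderOf_el_of_const 1 g prod_one_vec hg (Or.inl (nrm_one g _))

theorem prod_e2_06 : ∏ j, e2 0 6 j = 1 := by decide
theorem prod_e2_56 : ∏ j, e2 5 6 j = 1 := by decide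
theorem prod_e2_37 : ∏ j, e2 3 7 j = 1 := by decide

set_option maxRecDepth 100000 in
theorem exists_orderOf : ∀ n ∈ ordSet, ∃ x : H1, orderOf x = n := by
  intro n hn
  unfold ordSet at hn
  simp only [Finset.mem_insert, Finset.mem_singleton] at hn
  rcases hn with rfl | rfl | rfl | rfl | rfl | rfl | rfl | rfl | rfl | rfl | rfl
  · exact ⟨1, orderOf_one⟩
  · exact ⟨_, (orderOf_el_one g2 sign_g2).trans orderOf_g2⟩
  · exact ⟨_, (orderOf_el_one g3 sign_g3).trans orderOf_g3⟩
  · exact ⟨_, (orderOf_el_one g4 sign_g4).trans orderOf_g4⟩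
  · exact ⟨_, (orderOf_el_one g5 sign_g5).trans orderOf_g5⟩
  · exact ⟨_, (orderOf_el_one g6 sign_g6).trans orderOf_g6⟩
  · exact ⟨_, (orderOf_el_one c7 sign_c7).trans orderOf_c7⟩
  · exact ⟨el (e2 0 6) g4 prod_e2_06 sign_g4,
      orderOf_el_of_not_const _ _ _ _ 4 orderOf_g4 0 6 (by decide +kernel) (by decide +kernel)⟩
  · exact ⟨el (e2 5 6) g5 prod_e2_56 sign_g5,
      orderOf_el_of_not_const _ _ _ _ 5 orderOf_g5 5 0 (by decide +kernel) (by decide +kernel)⟩
  · exact ⟨el (e2 3 7) g6 prod_e2_37 sign_g6,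
      orderOf_el_of_not_const _ _ _ _ 6 orderOf_g6 3 7 (by decide +kernel) (by decide +kernel)⟩
  · exact ⟨_, (orderOf_el_one c35 sign_c35).trans orderOf_c35⟩

theorem range_orderOf : Set.range (orderOf : H1 → ℕ) = (ordSet : Set ℕ) := by
  ext n
  constructor
  · rintro ⟨x, rfl⟩
    exact orderOf_mem x
  · intro hn
    exact exists_orderOf n hn

/-- groups of unbounded order with the orders of the elements of the group. -/
theorem exists_large (N : ℕ) : ∃ (H' : Type) (_ : Group H') (_ : Fintype H'),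
    N < Fintype.card H' ∧ Set.range (orderOf : H' → ℕ) = (ordSet : Set ℕ) := by
  obtain ⟨H', i1, i2, h1, h2⟩ := Fibre.exists_large pr pr_ker_sq pr_ker_ne N
  exact ⟨H', i1, i2, h1, h2.trans range_orderOf⟩

end Cfsg.Agent.Helper9.A8V
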